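import Groth.Agent.UnitsProd.Scheme
import Groth.Agent.Devissage.TwoThree
import Groth.Agent.RedSepLib.Reduced
import Groth.Agent.GrpSch.Points
import Mathlib

/-!
# Units on a product of connected schemes, trivial on the axes

Over an algebraically closed field, a unit on `X × Y` (both connected, locally of finite type,
possibly reducible and non-reduced) that is `1` on both axes is `1` at every rational point.
-/

set_option autoImplicit false

universe u

open CategoryTheory Limits MonoidalCategory CartesianMonoidalCategory AlgebraicGeometry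

namespace Groth.Agent.RosUnit

variable {k : Type u} [Field k] [IsAlgClosed k]

/-- the closed point of a rational point -/
noncomputable abbrev pt {X : Over (Spec (CommRingCat.of k))}
    (p : 𝟙_ (Over (Spec (CommRingCat.of k))) ⟶ X) : X.left :=
  p.left (IsLocalRing.closedPoint k)

omit [IsAlgClosed k] in
lemma range_point_eq {X : Over (Spec (CommRingCat.of k))}
    (p : 𝟙_ (Over (Spec (CommRingCat.of k))) ⟶ X) : Set.range p.left = {pt p} := by
  haveI : Subsingleton ↥(𝟙_ (Over (Spec (CommRingCat.of k)))).left :=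
    inferInstanceAs (Subsingleton (PrimeSpectrum k))
  ext z
  constructor
  · rintro ⟨w, rfl⟩
    exact congrArg p.left.base (Subsingleton.elim _ _)
  · rintro rfl
    exact ⟨_, rfl⟩

omit [IsAlgClosed k] in
/-- an integral closed piece through the points of an irreducible closed set -/
lemma exists_piece (X : Over (Spec (CommRingCat.of k))) [LocallyOfFiniteType X.hom] {C : Set X.left}
    (hC : C ∈ irreducibleComponents X.left) :
    ∃ (Z : Over (Spec (CommRingCat.of k))) (i : Z ⟶ X), IsIntegral Z.left ∧ LocallyOfFiniteType Z.hom ∧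
      ∀ p : 𝟙_ (Over (Spec (CommRingCat.of k))) ⟶ X, pt p ∈ C → ∃ q, q ≫ i = p := by
  let F : TopologicalSpace.Closeds X.left := ⟨C, isClosed_of_mem_irreducibleComponents C hC⟩
  let I := Scheme.IdealSheafData.vanishingIdeal (X := X.left) F
  haveI := Groth.Agent.FpqcDescent.isReduced_subscheme_vanishingIdeal (X := X.left) F
  have hr : Set.range I.subschemeι = C := by
    rw [Scheme.IdealSheafData.range_subschemeι, Scheme.IdealSheafData.coe_support_vanishingIdeal]
    rfl
  haveI : IrreducibleSpace I.subscheme := by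
    let hh := I.subschemeι.isClosedEmbedding.isEmbedding.toHomeomorph
    haveI : IrreducibleSpace (Set.range I.subschemeι) := Subtype.irreducibleSpace (hr ▸ hC.1)
    exact hh.symm.surjective.irreducibleSpace hh.symm.continuous
  have hint : IsIntegral I.subscheme := isIntegral_of_irreducibleSpace_of_isReduced _
  refine ⟨Over.mk (I.subschemeι ≫ X.hom), Over.homMk I.subschemeι rfl,
    hint, ?_, fun p hp => ?_⟩
  · change LocallyOfFiniteType (I.subschemeι ≫ X.hom)
    infer_instance
  · haveI : IsReduced (𝟙_ (Over (Spec (CommRingCat.of k)))).left :=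
      inferInstanceAs (IsReduced (Spec (CommRingCat.of k)))
    obtain ⟨g, hg⟩ := Groth.Agent.RedSepLib.exists_lift_of_range_subset p.left I.subschemeι (by
      rw [range_point_eq p, hr, Set.singleton_subset_iff]
      exact hp)
    refine ⟨Over.homMk g (by
      change g ≫ I.subschemeι ≫ X.hom = _
      rw [← Category.assoc, hg, Over.w]), ?_⟩
    apply Over.OverMorphism.ext
    exact hg

/-- Propagation along the irreducible components of a connected scheme. -/
theorem induction_points (X : Over (Spec (CommRingCat.of k))) [LocallyOfFiniteType X.hom]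
    [ConnectedSpace X.left] [CompactSpace X.left] (P : (𝟙_ (Over (Spec (CommRingCat.of k))) ⟶ X) → Prop)
    (hP : ∀ C ∈ irreducibleComponents X.left, ∀ p p', pt p ∈ C → pt p' ∈ C → P p → P p')
    (e : 𝟙_ (Over (Spec (CommRingCat.of k))) ⟶ X) (he : P e) (p) : P p := by
  haveI : IsLocallyNoetherian X.left := LocallyOfFiniteType.isLocallyNoetherian X.hom
  haveI : JacobsonSpace X.left := LocallyOfFiniteType.jacobsonSpace X.hom
  let good : Set (Set X.left) := {C | C ∈ irreducibleComponents X.left ∧ ∀ p, pt p ∈ C → P p}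
  let S := ⋃₀ good
  let T := ⋃₀ (irreducibleComponents X.left \ good)
  haveI : IsNoetherian X.left := ⟨⟩
  have hclosed : ∀ F ⊆ irreducibleComponents X.left, IsClosed (⋃₀ F) := fun F hF =>
    (TopologicalSpace.NoetherianSpace.finite_irreducibleComponents.subset hF).isClosed_biUnion
      (fun C hC => isClosed_of_mem_irreducibleComponents _ (hF hC)) |> fun h => by
        rwa [Set.sUnion_eq_biUnion]
  have hS : IsClosed S := hclosed _ fun C hC => hC.1
  have hT : IsClosed T := hclosed _ fun C hC => hC.1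
  have hdisj : S ∩ T = ∅ := by
    by_contra hne
    rw [← Ne, ← Set.nonempty_iff_ne_empty] at hne
    obtain ⟨x, ⟨⟨C, hC, hxC⟩, ⟨D, hD, hxD⟩⟩, hx⟩ :=
      nonempty_inter_closedPoints hne (hS.inter hT).isLocallyClosed
    obtain ⟨q, rfl⟩ := GrpSch.exists_ratPoint X hx
    exact hD.2 ⟨hD.1, fun r hr => hP D hD.1 q r hxD hr (hC.2 q hxC)⟩
  have hcov : S ∪ T = Set.univ := by
    rw [← Set.sUnion_union, Set.union_sdiff_cancel (fun C hC => hC.1), sUnion_irreducibleComponents]
  have hScompl : S = Tᶜ := by
    refine subset_antisymm (fun x hx hxT => ?_) (fun x hx => ?_)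
    · exact (hdisj ▸ (⟨hx, hxT⟩ : x ∈ S ∩ T) : x ∈ (∅ : Set X.left))
    · exact ((hcov ▸ Set.mem_univ x : x ∈ S ∪ T)).resolve_right hx
  have hclopen : IsClopen S := ⟨hS, hScompl ▸ hT.isOpen_compl⟩
  have heS : pt e ∈ S := by
    obtain ⟨C, hC, heC⟩ : ∃ C ∈ irreducibleComponents X.left, pt e ∈ C := by
      have : pt e ∈ ⋃₀ irreducibleComponents X.left := by
        rw [sUnion_irreducibleComponents]; trivial
      exact this
    exact ⟨C, ⟨hC, fun r hr => hP C hC e r heC hr he⟩, heC⟩
  obtain ⟨C, hC, hpC⟩ : pt p ∈ S := by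
    rw [hclopen.eq_univ ⟨_, heS⟩]; trivial
  exact hC.2 p hpC

variable {X Y : Over (Spec (CommRingCat.of k))} [LocallyOfFiniteType X.hom] [LocallyOfFiniteType Y.hom]

/-- the value of a function at a pair of rational points -/
noncomputable def val (f : Γ((X ⊗ Y).left, ⊤)) (x : 𝟙_ (Over (Spec (CommRingCat.of k))) ⟶ X)
    (y : 𝟙_ (Over (Spec (CommRingCat.of k))) ⟶ Y) :
    Γ((𝟙_ (Over (Spec (CommRingCat.of k)))).left, ⊤) :=
  (lift x y).left.appTop f

lemma val_cross (f : Γ((X ⊗ Y).left, ⊤)) (hf : IsUnit f) {C : Set X.left}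
    (hC : C ∈ irreducibleComponents X.left) {D : Set Y.left} (hD : D ∈ irreducibleComponents Y.left)
    (x x') (hx : pt x ∈ C) (hx' : pt x' ∈ C) (y y') (hy : pt y ∈ D) (hy' : pt y' ∈ D) :
    val f x y * val f x' y' = val f x y' * val f x' y := by
  obtain ⟨Z, i, hZ, hZf, hZl⟩ := exists_piece X hC
  obtain ⟨W, j, hW, hWf, hWl⟩ := exists_piece Y hD
  obtain ⟨g, h, -, -, hgh⟩ := UnitsProd.exists_unit_mul Z W ((i ⊗ₘ j).left.appTop f)
    (hf.map (i ⊗ₘ j).left.appTop.hom)
  have key : ∀ a b, val f (a ≫ i) (b ≫ j) = a.left.appTop g * b.left.appTop h := by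
    intro a b
    have e : lift (a ≫ i) (b ≫ j) = lift a b ≫ (i ⊗ₘ j) := (lift_map a b i j).symm
    rw [val, e, Over.comp_left, Scheme.Hom.comp_appTop, CommRingCat.comp_apply, hgh, map_mul]
    congr 1
    · rw [← CommRingCat.comp_apply, ← Scheme.Hom.comp_appTop, ← Over.comp_left, lift_fst]
    · rw [← CommRingCat.comp_apply, ← Scheme.Hom.comp_appTop, ← Over.comp_left, lift_snd]
  obtain ⟨a, rfl⟩ := hZl x hx
  obtain ⟨a', rfl⟩ := hZl x' hx'
  obtain ⟨b, rfl⟩ := hWl y hy
  obtain ⟨b', rfl⟩ := hWl y' hy'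
  rw [key, key, key, key]
  ring

/-- The core statement. -/
theorem val_eq_one [ConnectedSpace X.left] [ConnectedSpace Y.left] [CompactSpace X.left]
    [CompactSpace Y.left] (f : Γ((X ⊗ Y).left, ⊤))
    (hf : IsUnit f) (eX : 𝟙_ (Over (Spec (CommRingCat.of k))) ⟶ X)
    (eY : 𝟙_ (Over (Spec (CommRingCat.of k))) ⟶ Y)
    (h1 : ∀ x, val f x eY = 1) (h2 : ∀ y, val f eX y = 1) (x y) : val f x y = 1 := by
  refine induction_points Y (fun y => ∀ x, val f x y = 1) (fun D hD y y' hy hy' hP => ?_) eY h1 y x
  intro x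
  refine induction_points X (fun x => val f x y' = 1) (fun C hC x x' hx hx' hQ => ?_) eX (h2 y') x
  have := val_cross f hf hC hD x x' hx hx' y y' hy hy'
  rwa [hP, hP, hQ, _root_.one_mul, _root_.one_mul] at this

end Groth.Agent.RosUnit
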